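import Cfsg.Prelude.Def_Transfer
import Cfsg.Agent.Lib.Clifford.Basic
import Cfsg.Agent.Lib.Clifford.Ito
import Cfsg.Agent.Lib.DegreeBounds.Basic
import Cfsg.Agent.Lib.PSolvable.Basic
import Cfsg.Agent.Lib.Glauberman.Cyclic

/-!
# Faithful characters of modulus one on the p-singular elements: the structure of `O_p`
-/

set_option autoImplicit false
set_option linter.unusedSectionVars false
set_option linter.style.haveILetI false

namespace Cfsg.Agent.Lib.RootOfUnity.Basic

open Subgroup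
open scoped commutatorElement
open Cfsg.Agent.Lib Cfsg.Agent.Lib.Characters Cfsg.Agent.Lib.Characters.Basic
  Cfsg.Agent.Lib.Clifford.Basic
open scoped ComplexConjugate

universe u

variable {G : Type u} [Group G] [Finite G] {p : ℕ} [hp : Fact p.Prime]

/-- The hypotheses on the character. -/
structure Setup (p : ℕ) (χ : Cfsg.IrrCharacter G) : Prop where
  faithful : ∀ g : G, (χ : G → ℂ) g = (χ : G → ℂ) 1 → g = 1
  nonlin : (χ : G → ℂ) 1 ≠ 1
  norm_one : ∀ g : G, p ∣ orderOf g → Complex.normSq ((χ : G → ℂ) g) = 1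
  core_ne : Cfsg.pCore p G ≠ ⊥

variable {χ : Cfsg.IrrCharacter G}

theorem dvd_orderOf_of_mem {y : G} (hy : y ∈ Cfsg.pCore p G) (hy1 : y ≠ 1) : p ∣ orderOf y := by
  obtain ⟨k, hk⟩ := (IsPGroup.iff_orderOf.mp (PSolvable.isPGroup_pCore (p := p) (G := G))) ⟨y, hy⟩
  rw [← orderOf_mk y hy, hk]
  refine dvd_pow_self p fun h0 => hy1 ?_
  rw [h0, pow_zero, orderOf_mk, orderOf_eq_one_iff] at hk
  exact hk

/-- The core is abelian, and the restriction is the sum of its nonprincipal characters, which are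
conjugate. -/
theorem core_spec (S : Setup p χ) {P : Subgroup G} (hP : P = Cfsg.pCore p G) [P.Normal]
    [Fintype P] :
    Cfsg.charDegree (χ : G → ℂ) + 1 = Nat.card P ∧
      (∀ θ : Cfsg.IrrCharacter P, (θ : P → ℂ) 1 = 1) ∧
      (∀ a ∈ P, ∀ b ∈ P, a * b = b * a) ∧
      (∀ θ : Cfsg.IrrCharacter P, θ ≠ oneChar _ →
        Cfsg.classInner (fun y : P => (χ : G → ℂ) y) θ = 1) ∧
      ∀ θ η : Cfsg.IrrCharacter P, θ ≠ oneChar _ → η ≠ oneChar _ →
        ∃ g : G, conjC P g θ = (η : P → ℂ) := by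
  classical
  haveI := Fintype.ofFinite G
  haveI := Fintype.ofFinite (Cfsg.IrrCharacter P)
  have hc : Cfsg.IsCharacter P (fun y : P => (χ : G → ℂ) y) :=
    isCharacter_comp P.subtype (isCharacter_irr χ)
  choose m hm using fun θ : Cfsg.IrrCharacter P => exists_classInner_nat hc (isCharacter_irr θ)
  obtain ⟨θ₀, hθ₀⟩ := exists_constituent_restrict P χ.2
  set e := m θ₀ with he
  have he0 : e ≠ 0 := fun h => hθ₀ (by rw [hm, ← he, h, Nat.cast_zero])
  let O := Finset.univ.filter fun θ : Cfsg.IrrCharacter P => m θ ≠ 0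
  have hconj : ∀ θ ∈ O, ∃ g : G, conjC P g θ₀ = (θ : P → ℂ) := fun θ hθ =>
    exists_conj_of_constituents P χ.2 hθ₀ (by
      rw [hm]; exact Nat.cast_ne_zero.mpr (Finset.mem_filter.mp hθ).2)
  have hme : ∀ θ ∈ O, m θ = e := fun θ hθ => by
    obtain ⟨g, hg⟩ := hconj θ hθ
    have h := classInner_restrict_conjC P (isClassFunction_irr χ) g (θ₀ : P → ℂ)
    rw [hg, hm, hm] at h
    exact_mod_cast h
  set f := Cfsg.charDegree (θ₀ : P → ℂ) with hf
  have hdeg : ∀ θ ∈ O, (θ : P → ℂ) 1 = (f : ℂ) := fun θ hθ => by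
    obtain ⟨g, hg⟩ := hconj θ hθ
    rw [← hg, conjC_apply, hf, ← DegreeBounds.Basic.charDegree_irr]
    refine congrArg _ ?_
    refine Subtype.ext ?_
    show g * (1 : G) * g⁻¹ = 1
    simp
  have hexp : ∀ y : P, (χ : G → ℂ) y = (e : ℂ) * ∑ θ ∈ O, (θ : P → ℂ) y := fun y => by
    have := congrFun (character_eq_finsum hc) y
    rw [finsum_eq_sum_of_fintype] at this
    simp only [hm] at this
    simp only [Finset.sum_apply, Pi.smul_apply, smul_eq_mul] at this
    rw [this, Finset.mul_sum, Finset.sum_filter]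
    refine Finset.sum_congr rfl fun θ _ => ?_
    by_cases h : m θ ≠ 0
    · rw [if_pos h, hme θ (Finset.mem_filter.mpr ⟨Finset.mem_univ _, h⟩)]
    · rw [if_neg h, not_not.mp h, Nat.cast_zero, zero_mul]
  set n := Cfsg.charDegree (χ : G → ℂ) with hn
  have hn1 : n ≠ 1 := fun h => S.nonlin (by
    rw [DegreeBounds.Basic.charDegree_irr, ← hn, h, Nat.cast_one])
  set t := O.card with ht
  have hnt : n = e * (t * f) := by
    have h1 := hexp 1
    rw [OneMemClass.coe_one, DegreeBounds.Basic.charDegree_irr, ← hn,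
      Finset.sum_congr rfl hdeg, Finset.sum_const, nsmul_eq_mul, ← ht] at h1
    exact_mod_cast h1
  -- the norm forces multiplicity one
  have he1 : e = 1 := by
    obtain ⟨⟨y, hy⟩, hy'⟩ := Subgroup.ne_bot_iff_exists_ne_one.mp (hP ▸ S.core_ne : P ≠ ⊥)
    have hy1 : y ≠ 1 := fun h => hy' (Subtype.ext h)
    have h1 := S.norm_one y (dvd_orderOf_of_mem (hP ▸ hy) hy1)
    set z := ∑ θ ∈ O, (θ : P → ℂ) ⟨y, hy⟩ with hz
    have hzi : IsIntegral ℤ z :=
      IsIntegral.sum _ fun θ _ => isIntegral_apply (isCharacter_irr θ) _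
    have h2 : ((e * e : ℕ) : ℂ) * (z * conj z) = ((1 : ℤ) : ℂ) := by
      have h3 : ((e : ℂ) * z) * conj ((e : ℂ) * z) = 1 := by
        rw [Complex.mul_conj, hz, ← hexp ⟨y, hy⟩, h1, Complex.ofReal_one]
      rw [map_mul, map_natCast] at h3
      push_cast
      linear_combination h3
    obtain ⟨w, hw⟩ := Glauberman.Cyclic.exists_int_of_isIntegral
      (hzi.mul (Characters.Degree.isIntegral_conj hzi)) (mul_ne_zero he0 he0) h2
    rw [hw] at h2
    have h4 : ((e * e : ℕ) : ℤ) * w = 1 := by exact_mod_cast h2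
    have h5 : ((e * e : ℕ) : ℤ) = 1 :=
      Int.eq_one_of_mul_eq_one_right (Int.natCast_nonneg _) h4
    exact Nat.eq_one_of_mul_eq_one_right (by exact_mod_cast h5 : e * e = 1)
  -- the norm equation
  have hnorm : t * Nat.card P + 1 = n ^ 2 + Nat.card P := by
    have h1 : ∑ y : P, (χ : G → ℂ) y * conj ((χ : G → ℂ) y) = ((t * Nat.card P : ℕ) : ℂ) := by
      calc _ = ∑ y : P, ∑ θ ∈ O, (χ : G → ℂ) y * conj ((θ : P → ℂ) y) := by
            refine Finset.sum_congr rfl fun y _ => ?_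
            nth_rewrite 2 [hexp y]
            rw [he1, Nat.cast_one, one_mul, map_sum, Finset.mul_sum]
        _ = ∑ θ ∈ O, (Nat.card P : ℂ) := by
            rw [Finset.sum_comm]
            refine Finset.sum_congr rfl fun θ hθ => ?_
            have h := hm θ
            rw [hme θ hθ, he1, Nat.cast_one, Cfsg.classInner, inv_mul_eq_one₀
              (Nat.cast_ne_zero.mpr Nat.card_pos.ne')] at h
            exact h.symm
        _ = _ := by rw [Finset.sum_const, nsmul_eq_mul, ← ht, Nat.cast_mul]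
    rw [← Finset.add_sum_erase _ _ (Finset.mem_univ (1 : P)), Finset.sum_congr rfl
      (g := fun _ : P => (1 : ℂ)) fun y hy => ?_] at h1
    · rw [OneMemClass.coe_one, DegreeBounds.Basic.charDegree_irr, ← hn, map_natCast,
        Finset.sum_const, Finset.card_erase_of_mem (Finset.mem_univ _), Finset.card_univ,
        ← Nat.card_eq_fintype_card, nsmul_eq_mul, mul_one, ← Nat.cast_mul, ← Nat.cast_add,
        Nat.cast_inj] at h1
      have := Nat.card_pos (α := P)
      rw [pow_two]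
      omega
    · rw [Complex.mul_conj, S.norm_one y (dvd_orderOf_of_mem (hP.le y.2) fun h =>
        (Finset.mem_erase.mp hy).1 (Subtype.ext h)), Complex.ofReal_one]
  obtain ⟨a, ha⟩ := IsPGroup.iff_card.mp (PSolvable.isPGroup_pCore (p := p) (G := G))
  rw [show Nat.card (Cfsg.pCore p G) = Nat.card P by rw [hP]] at ha
  have hcard2 : 2 ≤ Nat.card P := by
    haveI := (Subgroup.nontrivial_iff_ne_bot P).mpr (hP ▸ S.core_ne)
    exact Finite.one_lt_card
  have hf1 : f = 1 := by
    have hd := DegreeBounds.Basic.charDegree_dvd θ₀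
    rw [← hf, ha] at hd
    obtain ⟨i, -, hi⟩ := (Nat.dvd_prime_pow hp.out).mp hd
    rcases Nat.eq_zero_or_pos i with rfl | hi0
    · rw [hi, pow_zero]
    · exfalso
      have hpn : p ∣ n ^ 2 := by
        rw [hnt]
        exact dvd_pow (dvd_mul_of_dvd_right (dvd_mul_of_dvd_right
          (hi ▸ dvd_pow_self p hi0.ne') _) _) two_ne_zero
      have hpP : p ∣ Nat.card P := by
        rw [ha]
        refine dvd_pow_self p fun h0 => ?_
        rw [h0, pow_zero] at ha
        omega
      have := Nat.dvd_add hpn hpP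
      rw [← hnorm] at this
      exact hp.out.not_dvd_one ((Nat.dvd_add_right (dvd_mul_of_dvd_right hpP t)).mp this)
  have hnt' : n = t := by rw [hnt, he1, hf1, one_mul, mul_one]
  have hcard : n + 1 = Nat.card P := by
    rw [← hnt'] at hnorm
    have h0 : (n : ℤ) - 1 ≠ 0 := by omega
    have h1 : ((n : ℤ) - 1) * ((Nat.card P : ℤ) - (n + 1)) = 0 := by
      have : (n : ℤ) * Nat.card P + 1 = (n : ℤ) ^ 2 + Nat.card P := by exact_mod_cast hnorm
      linear_combination this
    have := (mul_eq_zero.mp h1).resolve_left h0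
    omega
  have hone : oneChar P ∉ O := by
    intro h
    obtain ⟨g, hg⟩ := hconj _ h
    have hall : ∀ θ ∈ O, θ = oneChar P := fun θ hθ => by
      obtain ⟨g', hg'⟩ := hconj θ hθ
      apply Subtype.ext
      rw [← hg', ← conjC_inv_conjC P g (θ₀ : P → ℂ), hg]
      funext k
      simp [conjC_apply, oneChar_apply]
    have : t ≤ 1 := Finset.card_le_one.mpr fun a ha b hb => (hall a ha).trans (hall b hb).symm
    omega
  have huniv : insert (oneChar P) O = Finset.univ := by
    have hsq := DegreeBounds.Basic.sum_charDegree_sq (G := P)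
    by_contra hne
    obtain ⟨θ, hθ⟩ : ∃ θ, θ ∉ insert (oneChar P) O := by
      by_contra h
      push Not at h
      exact hne (Finset.eq_univ_of_forall h)
    have hlt : ∑ η ∈ insert (oneChar P) O, Cfsg.charDegree (η : P → ℂ) ^ 2 <
        ∑ η : Cfsg.IrrCharacter P, Cfsg.charDegree (η : P → ℂ) ^ 2 :=
      Finset.sum_lt_sum_of_subset (Finset.subset_univ _) (Finset.mem_univ θ) hθ
        (pow_pos (DegreeBounds.Basic.charDegree_pos θ) 2) fun _ _ _ => Nat.zero_le _
    rw [hsq, Finset.sum_insert hone, Finset.sum_congr rfl (g := fun _ => 1) fun η hη => by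
      have h := hdeg η hη
      rw [DegreeBounds.Basic.charDegree_irr, Nat.cast_inj] at h
      rw [h, hf1, one_pow], Finset.sum_const, smul_eq_mul, mul_one,
      show Cfsg.charDegree (oneChar P : P → ℂ) = 1 by simp [Cfsg.charDegree, oneChar_apply],
      one_pow, ← ht, ← hnt'] at hlt
    omega
  have hO : ∀ θ, θ ≠ oneChar P → θ ∈ O := fun θ hθ =>
    Finset.mem_of_mem_insert_of_ne (huniv ▸ Finset.mem_univ θ) hθ
  have hlin : ∀ θ : Cfsg.IrrCharacter P, (θ : P → ℂ) 1 = 1 := fun θ => by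
    by_cases h : θ = oneChar P
    · rw [h, oneChar_apply]
    · rw [hdeg θ (hO θ h), hf1, Nat.cast_one]
  refine ⟨hcard, hlin, fun a ha b hb => ?_, fun θ hθ => ?_, fun θ η hθ hη => ?_⟩
  · have h1 : (⟨a, ha⟩ * ⟨b, hb⟩ * (⟨a, ha⟩ : P)⁻¹ * (⟨b, hb⟩ : P)⁻¹) = 1 := by
      refine Complete.eq_one_of_forall_irr fun θ => ?_
      simp only [← Linear.degOneHom_apply (isCharacter_irr θ) (hlin θ), map_mul, map_inv, map_one]
      congr 1
      rw [mul_inv_eq_one, mul_inv_eq_iff_eq_mul, mul_comm]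
    rw [mul_inv_eq_one, mul_inv_eq_iff_eq_mul] at h1
    exact congrArg Subtype.val h1
  · rw [hm, hme θ (hO θ hθ), he1, Nat.cast_one]
  · obtain ⟨g, hg⟩ := hconj θ (hO θ hθ)
    obtain ⟨g', hg'⟩ := hconj η (hO η hη)
    refine ⟨g⁻¹ * g', ?_⟩
    rw [conjC_mul, ← hg, conjC_inv_conjC, hg']

end Cfsg.Agent.Lib.RootOfUnity.Basic
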