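import Cfsg.Agent.Lib.RootOfUnity.Basic
import Cfsg.Agent.Lib.Characters.Kernel
import Cfsg.Agent.Lib.Clifford.Rep
import Mathlib.Algebra.GCDMonoid.Nat

/-!
# The centralizer of `O_p` and the fixed points of p-elements outside it
-/

set_option autoImplicit false
set_option linter.unusedSectionVars false
set_option linter.style.haveILetI false

namespace Cfsg.Agent.Lib.RootOfUnity.Fixed

open Subgroup
open Cfsg.Agent.Lib Cfsg.Agent.Lib.Characters Cfsg.Agent.Lib.Characters.Basic
  Cfsg.Agent.Lib.Clifford.Basic Cfsg.Agent.Lib.RootOfUnity.Basic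
open scoped ComplexConjugate

universe u

section rep

variable {G : Type u} [Group G] [Finite G] {n : ℕ} (ρ : Representation ℂ G (Fin n → ℂ))
  (P : Subgroup G) [P.Normal] [Fintype P]

/-- The projection to the part of type `θ`. -/
noncomputable def proj (θ : Cfsg.IrrCharacter P) : Module.End ℂ (Fin n → ℂ) :=
  (Nat.card P : ℂ)⁻¹ • ∑ y : P, conj ((θ : P → ℂ) y) • ρ (y : G)

theorem mul_of_lin (θ : Cfsg.IrrCharacter P) (hθ : (θ : P → ℂ) 1 = 1) (a b : P) :
    (θ : P → ℂ) (a * b) = (θ : P → ℂ) a * (θ : P → ℂ) b :=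
  Linear.apply_mul_of_degree_one (isCharacter_irr θ) hθ a b

theorem conj_mul_self_lin (θ : Cfsg.IrrCharacter P) (hθ : (θ : P → ℂ) 1 = 1) (a : P) :
    conj ((θ : P → ℂ) a) * (θ : P → ℂ) a = 1 := by
  rw [← apply_inv (isCharacter_irr θ), ← mul_of_lin P θ hθ, inv_mul_cancel, hθ]

theorem proj_idem (θ : Cfsg.IrrCharacter P) (hθ : (θ : P → ℂ) 1 = 1) :
    IsIdempotentElem (proj ρ P θ) := by
  show proj ρ P θ * proj ρ P θ = proj ρ P θ
  have h : ∀ a : P, conj ((θ : P → ℂ) a) • ρ (a : G) * ∑ y : P, conj ((θ : P → ℂ) y) • ρ (y : G) =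
      ∑ y : P, conj ((θ : P → ℂ) y) • ρ (y : G) := by
    intro a
    rw [Finset.mul_sum]
    refine Fintype.sum_equiv (Equiv.mulLeft a) _ _ fun y => ?_
    rw [smul_mul_smul_comm, Equiv.coe_mulLeft, mul_of_lin P θ hθ, map_mul, Subgroup.coe_mul,
      map_mul]
  rw [proj, smul_mul_smul_comm, Finset.sum_mul, Finset.sum_congr rfl fun a _ => h a,
    Finset.sum_const, Finset.card_univ, ← Nat.cast_smul_eq_nsmul ℂ, smul_smul,
    ← Nat.card_eq_fintype_card, mul_assoc, inv_mul_cancel₀ (Nat.cast_ne_zero.mpr Nat.card_pos.ne'),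
    mul_one]

theorem trace_proj (θ : Cfsg.IrrCharacter P) :
    LinearMap.trace ℂ _ (proj ρ P θ) =
      Cfsg.classInner (fun y : P => ρ.character (y : G)) (θ : P → ℂ) := by
  rw [proj, map_smul, map_sum, Cfsg.classInner, smul_eq_mul]
  congr 1
  refine Finset.sum_congr rfl fun y _ => ?_
  rw [map_smul, smul_eq_mul, mul_comm]
  rfl

theorem trace_proj_mul (θ : Cfsg.IrrCharacter P) (g : G) :
    LinearMap.trace ℂ _ (proj ρ P θ * ρ g) =
      (Nat.card P : ℂ)⁻¹ * ∑ y : P, ρ.character ((y : G) * g) * conj ((θ : P → ℂ) y) := by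
  rw [proj, smul_mul_assoc, Finset.sum_mul, map_smul, map_sum, smul_eq_mul]
  congr 1
  refine Finset.sum_congr rfl fun y _ => ?_
  rw [smul_mul_assoc, ← map_mul, map_smul, smul_eq_mul, mul_comm]
  rfl

theorem sum_proj [Fintype (Cfsg.IrrCharacter P)]
    (hlin : ∀ θ : Cfsg.IrrCharacter P, (θ : P → ℂ) 1 = 1) :
    ∑ θ : Cfsg.IrrCharacter P, proj ρ P θ = 1 := by
  classical
  simp only [proj, ← Finset.smul_sum]
  rw [Finset.sum_comm]
  simp only [← Finset.sum_smul]
  rw [Finset.sum_eq_single (1 : P)]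
  · simp only [hlin, map_one, Finset.sum_const, Finset.card_univ, nsmul_eq_mul, mul_one,
      OneMemClass.coe_one, map_one, smul_smul]
    have : Fintype.card (Cfsg.IrrCharacter P) = Nat.card P := by
      have h := DegreeBounds.Basic.sum_charDegree_sq (G := P)
      simp only [show ∀ θ : Cfsg.IrrCharacter P, Cfsg.charDegree (θ : P → ℂ) = 1 from fun θ => by
        simp [Cfsg.charDegree, hlin θ], one_pow, Finset.sum_const, Finset.card_univ, smul_eq_mul,
        mul_one] at h
      exact h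
    rw [this, inv_mul_cancel₀ (Nat.cast_ne_zero.mpr Nat.card_pos.ne'), one_smul]
  · intro y _ hy
    have h := Complete.sum_irr_mul_conj (1 : P) y
    simp only [hlin, one_mul] at h
    rw [h, if_neg fun e => hy (isConj_one_right.mp e), zero_smul]
  · exact fun h => absurd (Finset.mem_univ _) h

theorem proj_comm (θ : Cfsg.IrrCharacter P) {g : G} (hg : conjC P g θ = (θ : P → ℂ)) :
    Commute (ρ g) (proj ρ P θ) := by
  show ρ g * proj ρ P θ = proj ρ P θ * ρ g
  rw [proj, mul_smul_comm, smul_mul_assoc, Finset.mul_sum, Finset.sum_mul]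
  congr 1
  refine Fintype.sum_equiv (MulAut.conjNormal g).toEquiv _ _ fun y => ?_
  rw [mul_smul_comm, smul_mul_assoc, ← map_mul, ← map_mul]
  congr 1
  · exact congrArg conj (congrFun hg y).symm
  · congr 1
    show g * y = g * y * g⁻¹ * g
    group

theorem exists_scalar {E A : Module.End ℂ (Fin n → ℂ)} (hE : IsIdempotentElem E)
    (htr : LinearMap.trace ℂ _ E = 1) (hA : Commute A E) :
    ∃ μ : ℂ, A * E = μ • E ∧ LinearMap.trace ℂ _ (E * A) = μ ∧ E ≠ 0 := by
  have hproj := LinearMap.IsIdempotentElem.isProj_range E hE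
  have hfr : Module.finrank ℂ (LinearMap.range E) = 1 := by
    have h := hproj.trace
    rw [htr] at h
    exact_mod_cast h.symm
  obtain ⟨v, hv, hspan⟩ := finrank_eq_one_iff'.mp hfr
  have hEv : E v.1 = v.1 := hproj.map_id _ v.2
  have hAv : A v.1 ∈ LinearMap.range E := ⟨A v.1, by
    conv_rhs => rw [← hEv, ← Module.End.mul_apply, hA.eq, Module.End.mul_apply]⟩
  obtain ⟨μ, hμ⟩ := hspan ⟨_, hAv⟩
  have hμ' : μ • v.1 = A v.1 := congrArg Subtype.val hμ
  have hAE : A * E = μ • E := by
    refine LinearMap.ext fun w => ?_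
    obtain ⟨a, ha⟩ := hspan ⟨E w, LinearMap.mem_range_self _ _⟩
    have ha' : a • v.1 = E w := congrArg Subtype.val ha
    rw [Module.End.mul_apply, LinearMap.smul_apply, ← ha', map_smul, ← hμ', smul_smul, smul_smul,
      mul_comm]
  refine ⟨μ, hAE, ?_, fun h => ?_⟩
  · rw [← hA.eq, hAE, map_smul, htr, smul_eq_mul, mul_one]
  · rw [h, map_zero] at htr
    exact zero_ne_one htr

end rep

variable {G : Type u} [Group G] [Finite G] {p : ℕ} [hp : Fact p.Prime]
  {χ : Cfsg.IrrCharacter G}

/-- Parseval on an abelian group. -/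
theorem parseval {P : Type u} [Group P] [Fintype P] [Fintype (Cfsg.IrrCharacter P)]
    (hcomm : ∀ a b : P, a * b = b * a) (F : P → ℂ) :
    ∑ θ : Cfsg.IrrCharacter P, Complex.normSq (∑ y, F y * conj ((θ : P → ℂ) y)) =
      (Nat.card P : ℝ) * ∑ y, Complex.normSq (F y) := by
  classical
  apply Complex.ofReal_injective
  push_cast
  simp only [← Complex.mul_conj, map_sum, map_mul, Complex.conj_conj, Finset.sum_mul_sum]
  rw [Finset.sum_comm, Finset.mul_sum]
  refine Finset.sum_congr rfl fun a _ => ?_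
  rw [Finset.sum_comm, Finset.sum_eq_single a]
  · have h := Complete.sum_irr_mul_conj a a
    rw [if_pos (IsConj.refl a)] at h
    have hcen : Nat.card (centralizer ({a} : Set P)) = Nat.card P := by
      rw [show centralizer ({a} : Set P) = ⊤ from eq_top_iff.mpr fun g _ =>
        mem_centralizer_singleton_iff.mpr (hcomm g a), Subgroup.card_top]
    rw [hcen] at h
    calc _ = (F a * conj (F a)) * ∑ θ : Cfsg.IrrCharacter P,
          (θ : P → ℂ) a * conj ((θ : P → ℂ) a) := by
          rw [Finset.mul_sum]; exact Finset.sum_congr rfl fun θ _ => by ring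
      _ = _ := by rw [h]; ring
  · intro b _ hb
    have h := Complete.sum_irr_mul_conj b a
    rw [if_neg fun e => hb (by
      obtain ⟨c, hc⟩ := isConj_iff.mp e
      rwa [hcomm c, mul_inv_cancel_right] at hc)] at h
    calc _ = (F a * conj (F b)) * ∑ θ : Cfsg.IrrCharacter P,
          (θ : P → ℂ) b * conj ((θ : P → ℂ) a) := by
          rw [Finset.mul_sum]; exact Finset.sum_congr rfl fun θ _ => by ring
      _ = _ := by rw [h, mul_zero]
  · exact fun h => absurd (Finset.mem_univ _) h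

/-- A representation with the given character, with rank one projections. -/
theorem exists_rep_proj (S : Setup p χ) {P : Subgroup G} (hP : P = Cfsg.pCore p G) [P.Normal]
    [Fintype P] : ∃ (n : ℕ) (ρ : Representation ℂ G (Fin n → ℂ)), ρ.IsIrreducible ∧
      ρ.character = (χ : G → ℂ) ∧
      (∀ θ : Cfsg.IrrCharacter P, θ ≠ oneChar P → LinearMap.trace ℂ _ (proj ρ P θ) = 1) ∧
      proj ρ P (oneChar P) = 0 := by
  classical
  obtain ⟨hcard, hlin, hab, hmult, -⟩ := core_spec S hP
  haveI := Fintype.ofFinite (Cfsg.IrrCharacter P)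
  obtain ⟨n, ρ, hρ, hχ⟩ := exists_rep χ
  have htr : ∀ θ : Cfsg.IrrCharacter P, θ ≠ oneChar P →
      LinearMap.trace ℂ _ (proj ρ P θ) = 1 := fun θ hθ => by
    rw [trace_proj, hχ]; exact hmult θ hθ
  refine ⟨n, ρ, hρ, hχ, htr, ?_⟩
  have h0 : LinearMap.trace ℂ _ (proj ρ P (oneChar P)) = 0 := by
    have h := congrArg (LinearMap.trace ℂ (Fin n → ℂ)) (sum_proj ρ P hlin)
    rw [map_sum, ← Finset.add_sum_erase _ _ (Finset.mem_univ (oneChar P)),
      Finset.sum_congr rfl (g := fun _ => (1 : ℂ)) fun θ hθ => htr θ (Finset.ne_of_mem_erase hθ),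
      Finset.sum_const, Finset.card_erase_of_mem (Finset.mem_univ _), Finset.card_univ,
      LinearMap.trace_one] at h
    have hn : (Module.finrank ℂ (Fin n → ℂ) : ℂ) = (Cfsg.charDegree (χ : G → ℂ) : ℂ) := by
      rw [← DegreeBounds.Basic.charDegree_irr, ← congrFun hχ 1, Representation.char_one]
    have hI : Fintype.card (Cfsg.IrrCharacter P) = Nat.card P := by
      have h := DegreeBounds.Basic.sum_charDegree_sq (G := P)
      simp only [show ∀ θ : Cfsg.IrrCharacter P, Cfsg.charDegree (θ : P → ℂ) = 1 from fun θ => by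
        simp [Cfsg.charDegree, hlin θ], one_pow, Finset.sum_const, Finset.card_univ, smul_eq_mul,
        mul_one] at h
      exact h
    rw [hn, hI, ← hcard, Nat.add_sub_cancel, nsmul_eq_mul, mul_one] at h
    exact add_eq_right.mp h
  have hE := proj_idem ρ P (oneChar P) (oneChar_apply _)
  have hproj := LinearMap.IsIdempotentElem.isProj_range _ hE
  rw [hproj.trace, Nat.cast_eq_zero, Submodule.finrank_eq_zero, LinearMap.range_eq_bot] at h0
  exact h0

theorem conjC_of_centralizer {P : Subgroup G} [P.Normal] (θ : P → ℂ) {c : G}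
    (hc : c ∈ centralizer (P : Set G)) : conjC P c θ = θ := by
  funext y
  rw [conjC_apply]
  congr 1
  refine Subtype.ext ?_
  show c * y * c⁻¹ = y
  rw [← mem_centralizer_iff.mp hc y y.2, mul_inv_cancel_right]

/-- A faithful character is faithful as a representation. -/
theorem eq_of_rep_eq (S : Setup p χ) {n : ℕ} {ρ : Representation ℂ G (Fin n → ℂ)}
    (hχ : ρ.character = (χ : G → ℂ)) {a b : G} (h : ρ a = ρ b) : a = b := by
  refine inv_mul_eq_one.mp (S.faithful _ ?_)
  rw [← hχ]
  show LinearMap.trace ℂ _ (ρ (a⁻¹ * b)) = LinearMap.trace ℂ _ (ρ 1)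
  rw [map_mul, ← h, ← map_mul, inv_mul_cancel]

theorem centralizer_comm (S : Setup p χ) {P : Subgroup G} (hP : P = Cfsg.pCore p G) [P.Normal]
    [Fintype P] : ∀ a ∈ centralizer (P : Set G), ∀ b ∈ centralizer (P : Set G),
      a * b = b * a := by
  classical
  obtain ⟨-, hlin, -, -, -⟩ := core_spec S hP
  haveI := Fintype.ofFinite (Cfsg.IrrCharacter P)
  obtain ⟨n, ρ, -, hχ, htr, h0⟩ := exists_rep_proj S hP
  intro a ha b hb
  apply eq_of_rep_eq S hχ
  have key : ∀ θ : Cfsg.IrrCharacter P, ρ (a * b) * proj ρ P θ = ρ (b * a) * proj ρ P θ := by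
    intro θ
    by_cases hθ : θ = oneChar P
    · rw [hθ, h0, mul_zero, mul_zero]
    obtain ⟨μ, hμ, -, -⟩ := exists_scalar (proj_idem ρ P θ (hlin θ)) (htr θ hθ)
      (proj_comm ρ P θ (conjC_of_centralizer _ ha))
    obtain ⟨ν, hν, -, -⟩ := exists_scalar (proj_idem ρ P θ (hlin θ)) (htr θ hθ)
      (proj_comm ρ P θ (conjC_of_centralizer _ hb))
    rw [map_mul, map_mul, mul_assoc, mul_assoc, hν, hμ, mul_smul_comm, mul_smul_comm, hμ, hν,
      smul_smul, smul_smul, mul_comm]
  have := Finset.sum_congr rfl (s₁ := Finset.univ) fun θ _ => key θ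
  rwa [← Finset.mul_sum, ← Finset.mul_sum, sum_proj ρ P hlin, mul_one, mul_one] at this

theorem normSq_proj_trace (S : Setup p χ) {P : Subgroup G} (hP : P = Cfsg.pCore p G) [P.Normal]
    [Fintype P] {n : ℕ} {ρ : Representation ℂ G (Fin n → ℂ)}
    (htr : ∀ θ : Cfsg.IrrCharacter P, θ ≠ oneChar P → LinearMap.trace ℂ _ (proj ρ P θ) = 1)
    (θ : Cfsg.IrrCharacter P) (hθ : θ ≠ oneChar P) {g : G} (hg : conjC P g θ = (θ : P → ℂ)) :
    Complex.normSq (LinearMap.trace ℂ _ (proj ρ P θ * ρ g)) = 1 := by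
  obtain ⟨-, hlin, -, -, -⟩ := core_spec S hP
  have hc := proj_comm ρ P θ hg
  obtain ⟨μ, hμ, hμt, hne⟩ := exists_scalar (proj_idem ρ P θ (hlin θ)) (htr θ hθ) hc
  rw [hμt]
  have hpow : ∀ k : ℕ, ρ g ^ k * proj ρ P θ = μ ^ k • proj ρ P θ := by
    intro k
    induction k with
    | zero => simp
    | succ k ih => rw [pow_succ, mul_assoc, hμ, mul_smul_comm, ih, smul_smul, pow_succ']
  have h1 := hpow (orderOf g)
  rw [← map_pow, pow_orderOf_eq_one, map_one, one_mul] at h1
  have hμ1 : μ ^ orderOf g = 1 := smul_left_injective ℂ hne (by simpa using h1.symm)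
  rw [Complex.normSq_eq_norm_sq, Diag.norm_eq_one_of_pow (orderOf_pos g).ne' hμ1, one_pow]

/-- Elements of order prime to `p` centralizing the core are central. -/
theorem mem_center_of_coprime (S : Setup p χ) {P : Subgroup G} (hP : P = Cfsg.pCore p G)
    [P.Normal] [Fintype P] {c : G} (hc : c ∈ centralizer (P : Set G)) (hcp : ¬ p ∣ orderOf c) :
    c ∈ center G := by
  classical
  obtain ⟨hcard, hlin, hab, -, -⟩ := core_spec S hP
  haveI := Fintype.ofFinite (Cfsg.IrrCharacter P)
  obtain ⟨n, ρ, hirr, hχ, htr, h0⟩ := exists_rep_proj S hP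
  set d := Cfsg.charDegree (χ : G → ℂ)
  have hI : Fintype.card (Cfsg.IrrCharacter P) = Nat.card P := by
    have h := DegreeBounds.Basic.sum_charDegree_sq (G := P)
    simp only [show ∀ θ : Cfsg.IrrCharacter P, Cfsg.charDegree (θ : P → ℂ) = 1 from fun θ => by
      simp [Cfsg.charDegree, hlin θ], one_pow, Finset.sum_const, Finset.card_univ, smul_eq_mul,
      mul_one] at h
    exact h
  have hpar := parseval (fun a b => Subtype.ext (hab a a.2 b b.2))
    (fun y : P => (χ : G → ℂ) ((y : G) * c))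
  have hterm : ∀ θ : Cfsg.IrrCharacter P,
      ∑ y : P, (χ : G → ℂ) ((y : G) * c) * conj ((θ : P → ℂ) y) =
        (Nat.card P : ℂ) * LinearMap.trace ℂ _ (proj ρ P θ * ρ c) := fun θ => by
    rw [trace_proj_mul, hχ, ← mul_assoc,
      mul_inv_cancel₀ (Nat.cast_ne_zero.mpr Nat.card_pos.ne'), one_mul]
  have hl : ∑ θ : Cfsg.IrrCharacter P,
      Complex.normSq (∑ y : P, (χ : G → ℂ) ((y : G) * c) * conj ((θ : P → ℂ) y)) =
        (d : ℝ) * ((Nat.card P : ℝ) * Nat.card P) := by
    simp only [hterm, Complex.normSq_mul, Complex.normSq_natCast]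
    rw [← Finset.add_sum_erase _ _ (Finset.mem_univ (oneChar P)), h0, zero_mul, map_zero,
      Complex.normSq_zero, mul_zero, zero_add,
      Finset.sum_congr rfl (g := fun _ => (Nat.card P : ℝ) * Nat.card P) fun θ hθ => by
        rw [normSq_proj_trace S hP htr θ (Finset.ne_of_mem_erase hθ) (conjC_of_centralizer _ hc),
          mul_one],
      Finset.sum_const, Finset.card_erase_of_mem (Finset.mem_univ _), Finset.card_univ, hI,
      ← hcard, Nat.add_sub_cancel, nsmul_eq_mul]
  rw [hl, ← Finset.add_sum_erase _ _ (Finset.mem_univ (1 : P)),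
    Finset.sum_congr rfl (g := fun _ : P => (1 : ℝ)) fun y hy => S.norm_one _ ?_] at hpar
  · rw [Finset.sum_const, Finset.card_erase_of_mem (Finset.mem_univ _), Finset.card_univ,
      ← Nat.card_eq_fintype_card, nsmul_eq_mul, mul_one, OneMemClass.coe_one, one_mul,
      ← hcard, Nat.add_sub_cancel] at hpar
    push_cast at hpar
    have hsq : Complex.normSq ((χ : G → ℂ) c) = (d : ℝ) ^ 2 := by
      have hpos : (0 : ℝ) < (d : ℝ) + 1 := by positivity
      have := mul_left_cancel₀ hpos.ne'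
        (show ((d : ℝ) + 1) * ((d : ℝ) * ((d : ℝ) + 1)) =
          ((d : ℝ) + 1) * (Complex.normSq ((χ : G → ℂ) c) + d) by linear_combination hpar)
      linear_combination -this
    have hnorm : ‖ρ.character c‖ = (Module.finrank ℂ (Fin n → ℂ) : ℝ) := by
      have hfr : (Module.finrank ℂ (Fin n → ℂ) : ℝ) = d := by
        have h := DegreeBounds.Basic.charDegree_irr χ
        rw [← congrFun hχ 1, Representation.char_one] at h
        exact_mod_cast h
      rw [hfr, hχ, ← Real.sqrt_sq (Nat.cast_nonneg d), ← hsq]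
      rfl
    obtain ⟨ω, hω⟩ := (Diag.norm_char_eq_finrank_iff ρ c).mp hnorm
    rw [mem_center_iff]
    intro g
    apply eq_of_rep_eq S hχ
    rw [map_mul, map_mul, hω, show (LinearMap.id : Module.End ℂ (Fin n → ℂ)) = 1 from rfl,
      mul_smul_comm, smul_mul_assoc, mul_one, one_mul]
  · have hy1 : (y : G) ≠ 1 := fun h => (Finset.mem_erase.mp hy).1 (Subtype.ext h)
    have hd := dvd_orderOf_of_mem (p := p) (hP.le y.2) hy1
    have hcom : Commute (y : G) c := (mem_centralizer_iff.mp hc y y.2)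
    have hcop : (orderOf (y : G)).Coprime (orderOf c) := by
      obtain ⟨k, hk⟩ := (IsPGroup.iff_orderOf.mp (PSolvable.isPGroup_pCore (p := p) (G := G)))
        ⟨(y : G), hP.le y.2⟩
      rw [orderOf_mk] at hk
      rw [hk]
      exact (hp.out.coprime_iff_not_dvd.mpr hcp).pow_left k
    rw [hcom.orderOf_mul_eq_mul_orderOf_of_coprime hcop]
    exact dvd_mul_of_dvd_left hd _

/-- The `p`-elements centralizing the core lie in it. -/
theorem mem_core_of_ppower (S : Setup p χ) {P : Subgroup G} (hP : P = Cfsg.pCore p G) [P.Normal]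
    [Fintype P] {c : G} (hc : c ∈ centralizer (P : Set G)) {k : ℕ} (hk : c ^ p ^ k = 1) :
    c ∈ P := by
  have hcom := centralizer_comm S hP
  let W : Subgroup G :=
    { carrier := {w | w ∈ centralizer (P : Set G) ∧ ∃ i : ℕ, w ^ p ^ i = 1}
      one_mem' := ⟨one_mem _, 0, one_pow _⟩
      mul_mem' := fun {a b} ha hb => by
        obtain ⟨i, hi⟩ := ha.2
        obtain ⟨j, hj⟩ := hb.2
        refine ⟨mul_mem ha.1 hb.1, i + j, ?_⟩
        rw [(show Commute a b from hcom a ha.1 b hb.1).mul_pow]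
        rw [show a ^ p ^ (i + j) = 1 by rw [pow_add, pow_mul, hi, one_pow],
          show b ^ p ^ (i + j) = 1 by rw [pow_add, mul_comm, pow_mul, hj, one_pow], one_mul]
      inv_mem' := fun {a} ha => by
        obtain ⟨i, hi⟩ := ha.2
        exact ⟨inv_mem ha.1, i, by rw [inv_pow, hi, inv_one]⟩ }
  haveI : W.Normal := ⟨fun w hw g => by
    obtain ⟨i, hi⟩ := hw.2
    refine ⟨Normal.conj_mem inferInstance w hw.1 g, i, ?_⟩
    rw [conj_pow, hi, mul_one, mul_inv_cancel]⟩
  have hW : IsPGroup p W := fun w => by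
    obtain ⟨i, hi⟩ := w.2.2
    exact ⟨i, Subtype.ext hi⟩
  exact hP.ge (PSolvable.le_pCore inferInstance hW (show c ∈ W from ⟨hc, k, hk⟩))

theorem centralizer_eq (S : Setup p χ) {P : Subgroup G} (hP : P = Cfsg.pCore p G) [P.Normal]
    [Fintype P] : centralizer (P : Set G) = P ⊔ center G ∧ P ⊓ center G = ⊥ ∧
      ¬ p ∣ Nat.card (center G) := by
  obtain ⟨hcard, -, hab, -, -⟩ := core_spec S hP
  have hle : center G ≤ centralizer (P : Set G) := center_le_centralizer _
  have hPC : P ≤ centralizer (P : Set G) := fun a ha =>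
    mem_centralizer_iff.mpr fun b hb => hab b hb a ha
  have hdisj : P ⊓ center G = ⊥ := by
    rw [eq_bot_iff]
    rintro y ⟨hy, hyz⟩
    by_contra hy1
    have hy1' : y ≠ 1 := fun h => hy1 (mem_bot.mpr h)
    obtain ⟨n, ρ, hirr, hχ⟩ := exists_rep χ
    haveI := hirr
    obtain ⟨ω, hω⟩ := Clifford.Rep.schur ρ (ρ y) fun g => by
      rw [← map_mul, ← map_mul, mem_center_iff.mp hyz g]
    have hn := (Diag.norm_char_eq_finrank_iff ρ y).mpr ⟨ω, hω⟩
    have h1 := S.norm_one y (dvd_orderOf_of_mem (hP.le hy) hy1')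
    rw [hχ] at hn
    rw [Complex.normSq_eq_norm_sq, hn] at h1
    have hd := DegreeBounds.Basic.charDegree_irr χ
    have hd' := hd
    rw [← congrFun hχ 1, Representation.char_one] at hd'
    refine S.nonlin ?_
    rw [hd, ← hd']
    have : (Module.finrank ℂ (Fin n → ℂ)) ^ 2 = 1 := by exact_mod_cast h1
    rw [Nat.pow_eq_one.mp this |>.resolve_right two_ne_zero, Nat.cast_one]
  refine ⟨le_antisymm (fun c hc => ?_) (sup_le hPC hle), hdisj, fun h => ?_⟩
  · obtain ⟨k, m, hm, hkm⟩ := Nat.exists_eq_pow_mul_and_not_dvd (orderOf_pos c).ne' p hp.out.ne_one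
    have hu : c ^ m ∈ P := mem_core_of_ppower S hP (pow_mem hc m) (k := k)
      (by rw [← pow_mul, mul_comm, ← hkm, pow_orderOf_eq_one])
    have hw : c ^ p ^ k ∈ center G := mem_center_of_coprime S hP (pow_mem hc _) fun hd => by
      have h2 : (c ^ p ^ k) ^ m = 1 := by rw [← pow_mul, ← hkm, pow_orderOf_eq_one]
      exact hm (hd.trans (orderOf_dvd_of_pow_eq_one h2))
    have hg : Nat.gcd (p ^ k) m = 1 := (hp.out.coprime_iff_not_dvd.mpr hm).pow_left k
    have hbez := Nat.gcd_eq_gcd_ab (p ^ k) m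
    rw [hg, Nat.cast_one] at hbez
    rw [← zpow_one c, hbez, zpow_add, zpow_mul, zpow_mul, zpow_natCast, zpow_natCast]
    exact mul_mem (mem_sup_right (zpow_mem hw _)) (mem_sup_left (zpow_mem hu _))
  · obtain ⟨⟨z, hz⟩, hzo⟩ := exists_prime_orderOf_dvd_card' p h
    rw [orderOf_mk] at hzo
    have hzP : z ∈ P := mem_core_of_ppower S hP (hle hz) (k := 1)
      (by rw [pow_one, ← hzo, pow_orderOf_eq_one])
    have : z ∈ P ⊓ center G := Subgroup.mem_inf.mpr ⟨hzP, hz⟩
    rw [hdisj, mem_bot] at this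
    rw [this, orderOf_one] at hzo
    exact hp.out.one_lt.ne hzo

/-- The core is elementary abelian. -/
theorem pow_eq_one (S : Setup p χ) {P : Subgroup G} (hP : P = Cfsg.pCore p G) [P.Normal]
    [Fintype P] : ∀ a ∈ P, a ^ p = 1 := by
  classical
  obtain ⟨-, hlin, hab, -, htrans⟩ := core_spec S hP
  let f : P →* P :=
    { toFun := fun a => a ^ p
      map_one' := one_pow _
      map_mul' := fun a b => (show Commute a b from Subtype.ext (hab a a.2 b b.2)).mul_pow p }
  haveI : f.range.Normal := ⟨fun x hx g => by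
    rwa [show g * x = x * g from Subtype.ext (hab g g.2 x x.2), mul_inv_cancel_right]⟩
  have hne : f.range ≠ ⊤ := by
    intro h
    have hs : Function.Surjective f := MonoidHom.range_eq_top.mp h
    have hi := Finite.injective_iff_surjective.mpr hs
    obtain ⟨k, hk⟩ := IsPGroup.iff_card.mp (PSolvable.isPGroup_pCore (p := p) (G := G))
    have hd : p ∣ Nat.card P := by
      rw [hP, hk]
      refine dvd_pow_self p fun h0 => S.core_ne ?_
      rw [h0, pow_zero] at hk
      exact Subgroup.eq_bot_of_card_eq _ hk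
    obtain ⟨y, hy⟩ := exists_prime_orderOf_dvd_card' p hd
    have : y = 1 := hi (show y ^ p = 1 ^ p by rw [one_pow, ← hy, pow_orderOf_eq_one])
    rw [this, orderOf_one] at hy
    exact hp.out.one_lt.ne hy
  obtain ⟨q, hq⟩ : ∃ q : P ⧸ f.range, q ≠ 1 := by
    have h2 : 1 < Nat.card (P ⧸ f.range) := by
      rw [← Subgroup.index_eq_card]
      exact lt_of_le_of_ne (Nat.one_le_iff_ne_zero.mpr Subgroup.index_ne_zero_of_finite)
        fun e => hne (Subgroup.index_eq_one.mp e.symm)
    haveI := Finite.one_lt_card_iff_nontrivial.mp h2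
    exact exists_ne 1
  obtain ⟨φ, hφ⟩ : ∃ φ : Cfsg.IrrCharacter (P ⧸ f.range), φ ≠ oneChar _ := by
    by_contra hall
    push Not at hall
    exact hq (Complete.eq_one_of_forall_irr fun θ => by rw [hall θ]; rfl)
  set θ₀ := (Kernel.inflateEquiv f.range φ).1 with hθ₀
  have hθne : θ₀ ≠ oneChar P := by
    intro h
    apply hφ
    apply Subtype.ext
    funext y
    obtain ⟨a, rfl⟩ := QuotientGroup.mk_surjective y
    rw [← Kernel.inflateEquiv_apply, ← hθ₀, h]
    rfl
  have hker : ∀ a : P, (θ₀ : P → ℂ) (a ^ p) = 1 := fun a => by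
    rw [hθ₀, (Kernel.inflateEquiv f.range φ).2 (a ^ p) ⟨a, rfl⟩, hlin]
  intro a ha
  have : (⟨a, ha⟩ : P) ^ p = 1 := by
    refine Complete.eq_one_of_forall_irr fun θ => ?_
    rw [hlin]
    by_cases h : θ = oneChar P
    · rw [h, oneChar_apply]
    · obtain ⟨g, hg⟩ := htrans θ₀ θ hθne h
      rw [← hg, conjC_apply]
      convert hker ⟨g * a * g⁻¹, Normal.conj_mem inferInstance a ha g⟩ using 2
      exact Subtype.ext (by push_cast; rw [conj_pow])
  exact congrArg Subtype.val this

/-- A `p`-element outside the core fixes at most two characters of it; so `p = 2`. -/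
theorem outside_spec (S : Setup p χ) {P : Subgroup G} (hP : P = Cfsg.pCore p G) [P.Normal]
    [Fintype P] {x : G} (hx : ∃ k : ℕ, orderOf x = p ^ k) (hxP : x ∉ P) :
    p = 2 ∧ (x * x ∈ centralizer (P : Set G) → Nat.card P = 4) := by
  classical
  obtain ⟨hcard, hlin, hab, -, -⟩ := core_spec S hP
  haveI := Fintype.ofFinite (Cfsg.IrrCharacter P)
  obtain ⟨n, ρ, -, hχ, htr, h0⟩ := exists_rep_proj S hP
  obtain ⟨k, hk⟩ := hx
  have hsing : ∀ y : P, p ∣ orderOf ((y : G) * x) := by
    intro y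
    by_contra hd
    apply hxP
    rw [← QuotientGroup.eq_one_iff (N := P), ← orderOf_eq_one_iff]
    have h1 : orderOf (x : G ⧸ P) ∣ p ^ k := hk ▸ orderOf_map_dvd (QuotientGroup.mk' P) x
    have h2 : orderOf (x : G ⧸ P) ∣ orderOf ((y : G) * x) := by
      have h := orderOf_map_dvd (QuotientGroup.mk' P) ((y : G) * x)
      rwa [map_mul, show QuotientGroup.mk' P (y : G) = 1 from
        (QuotientGroup.eq_one_iff _).mpr y.2, one_mul] at h
    exact Nat.eq_one_of_dvd_coprimes ((hp.out.coprime_iff_not_dvd.mpr hd).pow_left k) h1 h2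
  let d : P →* P :=
    { toFun := fun a => ⟨x * a * x⁻¹ * (a : G)⁻¹,
        mul_mem (Normal.conj_mem inferInstance _ a.2 x) (inv_mem a.2)⟩
      map_one' := Subtype.ext (by simp)
      map_mul' := fun a b => Subtype.ext (by
        have h1 : x * b * x⁻¹ * (a : G)⁻¹ = (a : G)⁻¹ * (x * b * x⁻¹) :=
          hab _ (Normal.conj_mem inferInstance _ b.2 x) _ (inv_mem a.2)
        calc x * ((a * b : P) : G) * x⁻¹ * ((a * b : P) : G)⁻¹
            = x * a * x⁻¹ * ((x * b * x⁻¹) * (b : G)⁻¹ * (a : G)⁻¹) := by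
              rw [Subgroup.coe_mul]; group
          _ = x * a * x⁻¹ * ((x * b * x⁻¹) * ((a : G)⁻¹ * (b : G)⁻¹)) := by
              rw [mul_assoc (x * b * x⁻¹), hab _ (inv_mem b.2) _ (inv_mem a.2)]
          _ = x * a * x⁻¹ * (((a : G)⁻¹ * (x * b * x⁻¹)) * (b : G)⁻¹) := by
              rw [← mul_assoc (x * b * x⁻¹), h1]
          _ = x * a * x⁻¹ * (a : G)⁻¹ * (x * b * x⁻¹ * (b : G)⁻¹) := by group) }
  haveI : d.range.Normal := ⟨fun z hz g => by
    rwa [show g * z = z * g from Subtype.ext (hab g g.2 z z.2), mul_inv_cancel_right]⟩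
  haveI := Fintype.ofFinite (Cfsg.IrrCharacter (P ⧸ d.range))
  -- fixed characters
  have hfix : ∀ φ : Cfsg.IrrCharacter (P ⧸ d.range),
      conjC P x ((Kernel.inflateEquiv d.range φ).1 : P → ℂ) =
        ((Kernel.inflateEquiv d.range φ).1 : P → ℂ) := by
    intro φ
    funext a
    rw [conjC_apply, Kernel.inflateEquiv_apply, Kernel.inflateEquiv_apply]
    refine congrArg _ ?_
    rw [QuotientGroup.eq]
    have : (⟨x * a * x⁻¹, Normal.conj_mem inferInstance _ a.2 x⟩ : P)⁻¹ * a = (d a)⁻¹ :=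
      Subtype.ext (by
        show (x * a * x⁻¹)⁻¹ * (a : G) = (x * a * x⁻¹ * (a : G)⁻¹)⁻¹
        rw [mul_inv_rev (x * a * x⁻¹), inv_inv]
        exact hab _ (inv_mem (Normal.conj_mem inferInstance _ a.2 x)) _ a.2)
    rw [this]
    exact inv_mem ⟨a, rfl⟩
  have hker2 : Nat.card d.ker ≤ 2 := by
    have hq : Nat.card (Cfsg.IrrCharacter (P ⧸ d.range)) = Nat.card d.ker := by
      rw [Complete.card_irr_eq_card_conjClasses]
      have hc : ∀ a b : P ⧸ d.range, a * b = b * a := fun a b => by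
        obtain ⟨a, rfl⟩ := QuotientGroup.mk_surjective a
        obtain ⟨b, rfl⟩ := QuotientGroup.mk_surjective b
        rw [← QuotientGroup.mk_mul, ← QuotientGroup.mk_mul,
          show a * b = b * a from Subtype.ext (hab a a.2 b b.2)]
      rw [← Nat.card_eq_of_bijective ConjClasses.mk ⟨fun a b h => by
        obtain ⟨c, hc'⟩ := isConj_iff.mp (ConjClasses.mk_eq_mk_iff_isConj.mp h)
        rwa [hc c, mul_inv_cancel_right] at hc', ConjClasses.mk_surjective⟩]
      have h1 := d.ker.card_mul_index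
      rw [index_ker, ← d.range.card_mul_index, mul_comm, Subgroup.index_eq_card] at h1
      exact (Nat.eq_of_mul_eq_mul_left Nat.card_pos h1).symm
    set F := (Finset.univ.image fun φ : Cfsg.IrrCharacter (P ⧸ d.range) =>
      (Kernel.inflateEquiv d.range φ).1).erase (oneChar P) with hF
    have hFcard : Nat.card d.ker ≤ F.card + 1 := by
      rw [← hq, Nat.card_eq_fintype_card, ← Finset.card_univ, ← Finset.card_image_of_injective
        Finset.univ (f := fun φ : Cfsg.IrrCharacter (P ⧸ d.range) =>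
          (Kernel.inflateEquiv d.range φ).1)
        (Subtype.val_injective.comp (Kernel.inflateEquiv d.range).injective)]
      exact (Nat.sub_le_iff_le_add).mp Finset.pred_card_le_card_erase
    have hle : (F.card : ℝ) * ((Nat.card P : ℝ) * Nat.card P) ≤
        (Nat.card P : ℝ) * (Nat.card P : ℝ) := by
      have hpar := parseval (fun a b => Subtype.ext (hab a a.2 b b.2))
        (fun y : P => (χ : G → ℂ) ((y : G) * x))
      rw [Finset.sum_congr rfl (g := fun _ : P => (1 : ℝ)) fun y _ => S.norm_one _ (hsing y),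
        Finset.sum_const, Finset.card_univ, ← Nat.card_eq_fintype_card, nsmul_eq_mul, mul_one]
        at hpar
      rw [← nsmul_eq_mul, ← Finset.sum_const]
      refine le_trans (le_trans (le_of_eq (Finset.sum_congr rfl fun θ hθ => ?_))
        (Finset.sum_le_univ_sum_of_nonneg fun _ => Complex.normSq_nonneg _)) hpar.le
      obtain ⟨hne, φ, -, rfl⟩ : θ ≠ oneChar P ∧ ∃ φ, φ ∈ Finset.univ ∧
          (Kernel.inflateEquiv d.range φ).1 = θ := by
        simpa [hF] using hθ
      have h := normSq_proj_trace S hP htr _ hne (hfix φ)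
      rw [trace_proj_mul, hχ, Complex.normSq_mul, map_inv₀, Complex.normSq_natCast,
        inv_mul_eq_one₀ (mul_ne_zero (Nat.cast_ne_zero.mpr Nat.card_pos.ne')
          (Nat.cast_ne_zero.mpr Nat.card_pos.ne'))] at h
      exact h
    have hF1 : F.card ≤ 1 := by
      have hpos : (0 : ℝ) < (Nat.card P : ℝ) * Nat.card P :=
        mul_pos (Nat.cast_pos.mpr Nat.card_pos) (Nat.cast_pos.mpr Nat.card_pos)
      have : (F.card : ℝ) ≤ 1 := (mul_le_iff_le_one_left hpos).mp hle
      exact_mod_cast this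
    omega
  -- fixed points
  have hmod : p ∣ Nat.card d.ker := by
    letI : MulAction (zpowers x) P :=
      MulAction.compHom P ((MulAut.conjNormal (H := P)).comp (zpowers x).subtype)
    have hX : IsPGroup p (zpowers x) := IsPGroup.of_card (n := k) (by rw [Nat.card_zpowers, hk])
    have h1 := hX.card_modEq_card_fixedPoints P
    have hfe : MulAction.fixedPoints (zpowers x) P = (d.ker : Set P) := by
      ext a
      rw [SetLike.mem_coe, MonoidHom.mem_ker]
      constructor
      · intro h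
        refine Subtype.ext ?_
        have h' := congrArg Subtype.val (h ⟨x, mem_zpowers x⟩)
        show x * a * x⁻¹ * (a : G)⁻¹ = 1
        rw [mul_inv_eq_one]
        exact h'
      · intro h u
        have h' : x * a * x⁻¹ * (a : G)⁻¹ = 1 := congrArg Subtype.val h
        rw [mul_inv_eq_one, mul_inv_eq_iff_eq_mul] at h'
        obtain ⟨i, hi⟩ := mem_zpowers_iff.mp u.2
        refine Subtype.ext ?_
        show (u : G) * a * (u : G)⁻¹ = a
        rw [← hi, ((show Commute x a from h').zpow_left i).eq, mul_inv_cancel_right]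
    rw [hfe] at h1
    have hd : p ∣ Nat.card P := by
      obtain ⟨j, hj⟩ := IsPGroup.iff_card.mp (PSolvable.isPGroup_pCore (p := p) (G := G))
      rw [hP, hj]
      refine dvd_pow_self p fun h0 => S.core_ne ?_
      rw [h0, pow_zero] at hj
      exact Subgroup.eq_bot_of_card_eq _ hj
    exact Nat.modEq_zero_iff_dvd.mp (h1.symm.trans (Nat.modEq_zero_iff_dvd.mpr hd))
  have hpos : 0 < Nat.card d.ker := Nat.card_pos
  have hp2 : p = 2 := le_antisymm ((Nat.le_of_dvd hpos hmod).trans hker2) hp.out.two_le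
  refine ⟨hp2, fun hx2 => ?_⟩
  subst hp2
  have hexp := pow_eq_one S hP
  have hsub : d.range ≤ d.ker := by
    rintro _ ⟨a, rfl⟩
    refine MonoidHom.mem_ker.mpr (Subtype.ext ?_)
    show x * (x * a * x⁻¹ * (a : G)⁻¹) * x⁻¹ * (x * a * x⁻¹ * (a : G)⁻¹)⁻¹ = 1
    have h1 : x * x * a = a * (x * x) := (mem_centralizer_iff.mp hx2 a a.2).symm
    have hb : (x * a * x⁻¹ * (a : G)⁻¹) ^ 2 = 1 := hexp _ (d a).2
    have h2 : x * (x * a * x⁻¹ * (a : G)⁻¹) * x⁻¹ = (x * a * x⁻¹ * (a : G)⁻¹)⁻¹ := by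
      calc x * (x * a * x⁻¹ * (a : G)⁻¹) * x⁻¹
          = (x * x * a) * (x * x)⁻¹ * (x * (a : G)⁻¹ * x⁻¹) := by group
        _ = _ := by rw [h1]; group
    rw [h2, mul_eq_one_iff_eq_inv, inv_inv]
    exact inv_eq_of_mul_eq_one_right (by rw [← pow_two]; exact hb)
  have hP4 : Nat.card P ≤ 4 := by
    have h := d.ker.card_mul_index
    rw [index_ker] at h
    have h' : Nat.card d.range ≤ Nat.card d.ker :=
      Nat.card_le_card_of_injective _ (Subgroup.inclusion_injective hsub)
    calc Nat.card P = Nat.card d.ker * Nat.card d.range := h.symm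
      _ ≤ 2 * 2 := Nat.mul_le_mul hker2 (h'.trans hker2)
      _ = 4 := rfl
  have hn1 : Cfsg.charDegree (χ : G → ℂ) ≠ 1 := fun h => S.nonlin (by
    rw [DegreeBounds.Basic.charDegree_irr, h, Nat.cast_one])
  have hn0 := DegreeBounds.Basic.charDegree_pos χ
  obtain ⟨j, hj⟩ := IsPGroup.iff_card.mp (PSolvable.isPGroup_pCore (p := 2) (G := G))
  rw [show Nat.card (Cfsg.pCore 2 G) = Nat.card P by rw [hP]] at hj
  have hj3 : j ≤ 2 := by
    by_contra hc
    have : 2 ^ 3 ≤ 2 ^ j := Nat.pow_le_pow_right two_pos (by omega)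
    omega
  interval_cases j <;> omega

end Cfsg.Agent.Lib.RootOfUnity.Fixed
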