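import Cfsg.Agent.Lib.RootOfUnity.Fixed
import Mathlib.GroupTheory.Perm.Sign
import Mathlib.GroupTheory.Transfer

/-!
# The exceptional case: `G` is the product of a symmetric group of degree four and the center
-/

set_option autoImplicit false
set_option linter.unusedSectionVars false
set_option linter.style.haveILetI false

namespace Cfsg.Agent.Lib.RootOfUnity.Split

open Subgroup
open Cfsg.Agent.Lib Cfsg.Agent.Lib.Characters.Basic Cfsg.Agent.Lib.RootOfUnity.Basic
  Cfsg.Agent.Lib.RootOfUnity.Fixed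

universe u

variable {G : Type u} [Group G]

/-- The action of the group on the nontrivial elements of a normal subgroup. -/
noncomputable def act (P : Subgroup G) [P.Normal] : G →* Equiv.Perm {a : P // a ≠ 1} where
  toFun g := Equiv.Perm.subtypePerm (MulAut.conjNormal (H := P) g).toEquiv fun a => by simp
  map_one' := by ext; simp
  map_mul' g h := Equiv.ext fun a => Subtype.ext (Subtype.ext (by
    show g * h * (a : P) * (g * h)⁻¹ = g * (h * (a : P) * h⁻¹) * g⁻¹
    group))

theorem act_apply (P : Subgroup G) [P.Normal] (g : G) (a : {a : P // a ≠ 1}) :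
    ((act P g a : P) : G) = g * (a : P) * g⁻¹ := rfl

theorem act_eq_one_iff (P : Subgroup G) [P.Normal] (g : G) :
    act P g = 1 ↔ g ∈ centralizer (P : Set G) := by
  constructor
  · intro h
    refine mem_centralizer_iff.mpr fun b hb => ?_
    by_cases hb1 : (⟨b, hb⟩ : P) = 1
    · rw [show b = 1 from congrArg Subtype.val hb1, one_mul, mul_one]
    · have h1 : g * b * g⁻¹ = b :=
        congrArg (fun c : {a : P // a ≠ 1} => ((c : P) : G)) (Equiv.Perm.congr_fun h ⟨_, hb1⟩)
      exact (mul_inv_eq_iff_eq_mul.mp h1).symm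
  · intro h
    refine Equiv.ext fun a => Subtype.ext (Subtype.ext ?_)
    rw [act_apply, Equiv.Perm.one_apply, ← mem_centralizer_iff.mp h (a : P) (a : P).2,
      mul_inv_cancel_right]

theorem perm_three_fix {X : Type*} [Fintype X] (hX : Fintype.card X = 3) (σ : Equiv.Perm X) (a : X)
    (h : σ a = a) : σ * σ = 1 := by
  classical
  let e := Fintype.equivFinOfCardEq hX
  have key : ∀ (τ : Equiv.Perm (Fin 3)) (i : Fin 3), τ i = i → τ * τ = 1 := by decide
  have h1 := key (e.permCongrHom σ) (e a) (by simp [Equiv.permCongrHom, h])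
  rw [← map_mul] at h1
  exact e.permCongrHom.map_eq_one_iff.mp h1

theorem eq_one_of_pow_two_of_odd {A : Type*} [Group A] [Finite A] (hA : Odd (Nat.card A)) {a : A}
    {i : ℕ} (h : a ^ 2 ^ i = 1) : a = 1 := by
  rw [← orderOf_eq_one_iff]
  refine Nat.eq_one_of_dvd_coprimes ?_ (orderOf_dvd_natCard a) (orderOf_dvd_of_pow_eq_one h)
  exact (Nat.Coprime.pow_left i (Nat.coprime_two_left.mpr hA)).symm

variable [Finite G] {p : ℕ} [hp : Fact p.Prime] {χ : Cfsg.IrrCharacter G}

/-- The data of the exceptional case. -/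
theorem data (S : Setup p χ) {P : Subgroup G} (hP : P = Cfsg.pCore p G) [P.Normal]
    (hns : (Nat.card P).factorization p ≠ (Nat.card G).factorization p) :
    p = 2 ∧ Nat.card P = 4 ∧ Function.Surjective (act P) ∧
      (act P).ker = P ⊔ center G ∧ Odd (Nat.card (center G)) ∧
      Nat.card G = 24 * Nat.card (center G) := by
  classical
  haveI := Fintype.ofFinite P
  have hPp : IsPGroup p P := hP ▸ PSolvable.isPGroup_pCore
  obtain ⟨Q, hQ⟩ := hPp.exists_le_sylow
  obtain ⟨x₀, hx₀, hx₀P⟩ : ∃ x₀ ∈ (Q : Subgroup G), x₀ ∉ P := by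
    by_contra h
    push Not at h
    refine hns ?_
    rw [le_antisymm hQ h, Sylow.card_eq_multiplicity, Nat.factorization_pow, Finsupp.smul_apply,
      hp.out.factorization_self, smul_eq_mul, mul_one]
  obtain ⟨k, hk⟩ : ∃ k, orderOf x₀ = p ^ k := by
    obtain ⟨k, hk⟩ := IsPGroup.iff_orderOf.mp Q.2 ⟨x₀, hx₀⟩
    exact ⟨k, by rw [← hk, orderOf_mk]⟩
  obtain ⟨rfl, -⟩ := outside_spec S hP ⟨k, hk⟩ hx₀P
  have hex : ∃ i, x₀ ^ 2 ^ i ∈ P := ⟨k, by rw [← hk, pow_orderOf_eq_one]; exact one_mem P⟩
  obtain ⟨i, hi⟩ : ∃ i, Nat.find hex = i + 1 := by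
    rcases Nat.exists_eq_succ_of_ne_zero (n := Nat.find hex) (fun h => hx₀P (by
      have := Nat.find_spec hex
      rwa [h, pow_zero, pow_one] at this)) with ⟨i, hi⟩
    exact ⟨i, hi⟩
  set x := x₀ ^ 2 ^ i with hx
  have hxP : x ∉ P := Nat.find_min hex (by omega)
  have hxx : x * x ∈ P := by
    rw [hx, ← pow_add, ← two_mul, ← pow_succ', ← hi]
    exact Nat.find_spec hex
  have hxo : ∃ j, orderOf x = 2 ^ j := by
    obtain ⟨j, -, hj⟩ := (Nat.dvd_prime_pow Nat.prime_two).mp
      (hk ▸ orderOf_pow_dvd (x := x₀) (2 ^ i) : orderOf x ∣ 2 ^ k)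
    exact ⟨j, hj⟩
  obtain ⟨hcen, hdisj, hZ⟩ := centralizer_eq S hP
  obtain ⟨hcard, -, hab, -, -⟩ := core_spec S hP
  have hP4 := (outside_spec S hP hxo hxP).2
    (mem_centralizer_iff.mpr fun b hb => hab b hb _ hxx)
  have hker : (act P).ker = P ⊔ center G := by
    ext g
    rw [MonoidHom.mem_ker, act_eq_one_iff, hcen]
  have hX : Nat.card {a : P // a ≠ 1} = 3 := by
    rw [Nat.card_eq_fintype_card, Fintype.card_subtype_compl, Fintype.card_subtype_eq,
      ← Nat.card_eq_fintype_card, hP4]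
  have h6 : Nat.card (Equiv.Perm {a : P // a ≠ 1}) = 6 := by
    rw [Nat.card_perm, hX]; rfl
  have hx1 : act P x ≠ 1 := by
    rw [Ne, act_eq_one_iff]
    intro hc
    obtain ⟨j, hj⟩ := hxo
    exact hxP (mem_core_of_ppower S hP hc (k := j) (by rw [← hj, pow_orderOf_eq_one]))
  have hx2 : orderOf (act P x) = 2 := by
    refine orderOf_eq_prime ?_ hx1
    rw [pow_two, ← map_mul, act_eq_one_iff, hcen]
    exact mem_sup_left hxx
  have h2 : 2 ∣ Nat.card (act P).range := by
    rw [← hx2, ← orderOf_mk (act P x) (MonoidHom.mem_range.mpr ⟨x, rfl⟩)]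
    exact orderOf_dvd_natCard _
  have h3 : 3 ∣ Nat.card (act P).range := by
    obtain ⟨d, hd, hdvd⟩ := Clifford.Ito.degree_dvd_index (act P).ker
      (fun a ha b hb => centralizer_comm S hP a ((act_eq_one_iff P a).mp ha) b
        ((act_eq_one_iff P b).mp hb)) χ
    rw [DegreeBounds.Basic.charDegree_irr, Nat.cast_inj] at hd
    rw [← index_ker]
    rwa [show d = 3 by omega] at hdvd
  have hd6 : Nat.card (act P).range ∣ 6 := h6 ▸ card_subgroup_dvd_card _
  have hr6 : Nat.card (act P).range = 6 :=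
    Nat.dvd_antisymm hd6 (Nat.Coprime.mul_dvd_of_dvd_of_dvd (by norm_num) h2 h3 : 2 * 3 ∣ _)
  have hsur : Function.Surjective (act P) :=
    MonoidHom.range_eq_top.mp (Subgroup.eq_top_of_card_eq _ (hr6.trans h6.symm))
  refine ⟨rfl, hP4, hsur, hker, Nat.not_even_iff_odd.mp fun h => hZ (even_iff_two_dvd.mp h), ?_⟩
  let m : P × center G →* G := MonoidHom.noncommCoprod P.subtype (center G).subtype
    fun a z => mem_center_iff.mp z.2 a
  have hm : Function.Injective m := by
    rw [injective_iff_map_eq_one]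
    rintro ⟨a, z⟩ h
    have h' : (a : G) * z = 1 := h
    have ha : (a : G) ∈ P ⊓ center G := by
      refine ⟨a.2, ?_⟩
      show (a : G) ∈ center G
      rw [eq_inv_of_mul_eq_one_left h']
      exact inv_mem z.2
    rw [hdisj, mem_bot] at ha
    rw [ha, one_mul] at h'
    exact Prod.ext (Subtype.ext ha) (Subtype.ext h')
  have h := (act P).ker.card_mul_index
  rw [index_ker, hr6, hker, show P ⊔ center G = m.range from
      (by rw [range_subtype, range_subtype] :
        P ⊔ center G = P.subtype.range ⊔ (center G).subtype.range).trans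
        (MonoidHom.noncommCoprod_range _ _ _).symm,
    Nat.card_congr (MonoidHom.ofInjective hm).toEquiv.symm, Nat.card_prod, hP4] at h
  omega

/-- The splitting. -/
theorem split (S : Setup p χ) {P : Subgroup G} (hP : P = Cfsg.pCore p G) [P.Normal]
    (hns : (Nat.card P).factorization p ≠ (Nat.card G).factorization p) :
    p = 2 ∧ Odd (Nat.card (center G)) ∧
      ∃ H : Subgroup G, Nonempty (H ≃* Equiv.Perm (Fin 4)) ∧ H ⊓ center G = ⊥ ∧
        H ⊔ center G = ⊤ := by
  classical
  haveI := Fintype.ofFinite P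
  obtain ⟨rfl, hP4, hsur, hker, hZ, hG⟩ := data S hP hns
  refine ⟨rfl, hZ, ?_⟩
  have hexp := pow_eq_one S hP
  have hX : Fintype.card {a : P // a ≠ 1} = 3 := by
    rw [Fintype.card_subtype_compl, Fintype.card_subtype_eq, ← Nat.card_eq_fintype_card, hP4]
  have hCZ : ∀ c ∈ (act P).ker, ∃ a ∈ P, ∃ z ∈ center G, c = a * z := fun c hc => by
    rw [hker, ← SetLike.mem_coe, Subgroup.normal_mul] at hc
    obtain ⟨a, ha, z, hz, rfl⟩ := Set.mem_mul.mp hc
    exact ⟨a, ha, z, hz, rfl⟩
  -- an element inducing a three cycle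
  obtain ⟨σ, hσ⟩ : ∃ σ : Equiv.Perm {a : P // a ≠ 1}, orderOf σ = 3 :=
    exists_prime_orderOf_dvd_card' 3 (by
      rw [Nat.card_perm, Nat.card_eq_fintype_card, hX]; decide)
  obtain ⟨r, hr⟩ := hsur σ
  have hr6 : r ^ 6 ∈ center G := by
    obtain ⟨a, ha, z, hz, he⟩ := hCZ (r ^ 3) (by
      rw [MonoidHom.mem_ker, map_pow, hr, ← hσ, pow_orderOf_eq_one])
    rw [show 6 = 3 * 2 from rfl, pow_mul, he,
      (show Commute a z from mem_center_iff.mp hz a).mul_pow, hexp a ha, one_mul]
    exact pow_mem hz 2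
  set r' : G ⧸ center G := QuotientGroup.mk' (center G) (r ^ 2) with hr'
  have hr'o : orderOf r' = 3 := by
    refine orderOf_eq_prime ?_ ?_
    · rw [hr', ← map_pow, ← pow_mul]
      exact (QuotientGroup.eq_one_iff _).mpr hr6
    · intro h
      have h1 : act P (r ^ 2) = 1 := by
        rw [← MonoidHom.mem_ker, hker]
        exact mem_sup_right ((QuotientGroup.eq_one_iff _).mp h)
      rw [map_pow, hr] at h1
      have := orderOf_dvd_of_pow_eq_one h1
      rw [hσ] at this
      norm_num at this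
  set R : Subgroup G := (zpowers r').comap (QuotientGroup.mk' (center G)) with hRdef
  have hRi : R.index = 8 := by
    have h := (zpowers r').card_mul_index
    rw [Nat.card_zpowers, hr'o, ← Subgroup.index_eq_card] at h
    have h' := (center G).card_mul_index
    rw [hG] at h'
    have := Nat.card_pos (α := center G)
    have h24 : (center G).index = 24 := mul_left_cancel₀ this.ne' (by rw [h', mul_comm])
    rw [h24] at h
    rw [hRdef, index_comap_of_surjective _ (QuotientGroup.mk'_surjective _)]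
    omega
  have hRcard : Nat.card R = 3 * Nat.card (center G) := by
    have h := R.card_mul_index
    rw [hRi, hG] at h
    omega
  have hRodd : Odd (Nat.card R) := hRcard ▸ (by decide : Odd 3).mul hZ
  have hRmem : ∀ g ∈ R, ∃ i : ℤ, ∃ z ∈ center G, g = (r ^ 2) ^ i * z := fun g hg => by
    obtain ⟨i, hi⟩ := mem_zpowers_iff.mp (mem_comap.mp hg)
    refine ⟨i, ((r ^ 2) ^ i)⁻¹ * g, ?_, (mul_inv_cancel_left _ _).symm⟩
    rw [hr', ← map_zpow] at hi
    exact QuotientGroup.eq.mp hi
  letI : CommGroup R :=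
    { (inferInstance : Group R) with
      mul_comm := fun a b => Subtype.ext (by
        obtain ⟨i, z, hz, ha⟩ := hRmem a a.2
        obtain ⟨j, w, hw, hb⟩ := hRmem b b.2
        have e : ∀ (u : G), u ∈ center G → ∀ v : G, Commute u v := fun u hu v =>
          (mem_center_iff.mp hu v).symm
        show (a : G) * b = b * a
        rw [ha, hb]
        exact Commute.eq ((((Commute.refl (r ^ 2)).zpow_zpow i j).mul_left (e z hz _)).mul_right
          ((e w hw _).symm))) }
  let v : G →* R := MonoidHom.transfer (MonoidHom.id R)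
  have hv : ∀ z (hz : z ∈ center G), (v z : G) = z ^ 8 := fun z hz => by
    have h := MonoidHom.transfer_eq_pow (MonoidHom.id R) z (fun k g₀ _ => by
      rw [mul_assoc, (mem_center_iff.mp (pow_mem hz k) g₀).symm, inv_mul_cancel_left])
    show ((MonoidHom.transfer (MonoidHom.id R) z : R) : G) = z ^ 8
    rw [h, ← hRi]
    rfl
  have hvinj : ∀ z ∈ center G, v z = 1 → z = 1 := fun z hz h => by
    have h8 := hv z hz
    rw [h, OneMemClass.coe_one] at h8
    exact congrArg Subtype.val (eq_one_of_pow_two_of_odd hZ (a := (⟨z, hz⟩ : center G)) (i := 3)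
      (Subtype.ext h8.symm))
  have hvP : ∀ a ∈ P, v a = 1 := fun a ha =>
    eq_one_of_pow_two_of_odd hRodd (i := 1) (by rw [pow_one, ← map_pow, hexp a ha, map_one])
  let M : Subgroup G := ((center G).map v).comap v
  have hMC : (act P).ker ≤ M := fun c hc => by
    obtain ⟨a, ha, z, hz, rfl⟩ := hCZ c hc
    exact ⟨z, hz, by rw [map_mul, hvP a ha, one_mul]⟩
  have hM : M = ⊤ := by
    have hsw : ∀ g, act P g * act P g = 1 → g ∈ M := fun g hg => by
      have h2 : v g * v g ∈ (center G).map v := by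
        rw [← map_mul]
        exact hMC (by rwa [MonoidHom.mem_ker, map_mul])
      obtain ⟨j, hj⟩ := hRodd
      have h : v g = (v g * v g) ^ (j + 1) := by
        rw [← pow_two, ← pow_mul, show 2 * (j + 1) = Nat.card R + 1 by omega, pow_succ,
          pow_card_eq_one', one_mul]
      show v g ∈ (center G).map v
      rw [h]
      exact pow_mem h2 _
    have himg : M.map (act P) = ⊤ := by
      rw [eq_top_iff, ← Equiv.Perm.closure_isSwap, closure_le]
      intro τ hτ
      obtain ⟨g, rfl⟩ := hsur τ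
      refine ⟨g, hsw g ?_, rfl⟩
      obtain ⟨a, b, -, hab⟩ := hτ
      rw [hab, Equiv.swap_mul_self]
    have h := congrArg (Subgroup.comap (act P)) himg
    rwa [comap_map_eq, comap_top, sup_eq_left.mpr hMC] at h
  set H := v.ker with hH
  have hdisj : H ⊓ center G = ⊥ := by
    rw [eq_bot_iff]
    exact fun z hz => mem_bot.mpr (hvinj z hz.2 hz.1)
  have hsup : H ⊔ center G = ⊤ := by
    rw [eq_top_iff]
    intro g _
    obtain ⟨z, hz, he⟩ := (hM ▸ mem_top g : g ∈ M)
    rw [show g = g * z⁻¹ * z by group]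
    refine mul_mem_sup ?_ hz
    rw [hH, MonoidHom.mem_ker, map_mul, map_inv, he, mul_inv_cancel]
  have hHcard : Nat.card H = 24 := by
    have h1 : Nat.card v.range = Nat.card (center G) := by
      rw [← Nat.card_congr (MonoidHom.ofInjective (f := v.comp (center G).subtype) (by
        rw [injective_iff_map_eq_one]
        exact fun z hz => Subtype.ext (hvinj z z.2 hz))).toEquiv.symm]
      refine congrArg (fun K : Subgroup R => Nat.card K) ?_
      rw [MonoidHom.range_comp, range_subtype]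
      refine le_antisymm ?_ (map_le_range v _)
      rintro _ ⟨g, rfl⟩
      exact (hM ▸ mem_top g : g ∈ M)
    have h := H.card_mul_index
    rw [hH, index_ker, h1, hG] at h
    exact Nat.eq_of_mul_eq_mul_right Nat.card_pos h
  refine ⟨H, ?_, hdisj, hsup⟩
  -- the action on the Sylow three-subgroups
  have hPH : P ≤ H := fun a ha => hvP a ha
  set P' := P.subgroupOf H with hP'
  have hP'4 : Nat.card P' = 4 := by
    rw [Nat.card_congr (subgroupOfEquivOfLe hPH).toEquiv, hP4]
  have hHC : ∀ h : H, act P h = 1 → h ∈ P' := fun h hh => by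
    obtain ⟨a, ha, z, hz, he⟩ := hCZ h (MonoidHom.mem_ker.mpr hh)
    have h1 : v (h : G) = 1 := MonoidHom.mem_ker.mp h.2
    rw [he, map_mul, hvP a ha, one_mul] at h1
    rw [hP', mem_subgroupOf, he, hvinj z hz h1, mul_one]
    exact ha
  haveI : Fact (Nat.Prime 3) := ⟨Nat.prime_three⟩
  haveI : P'.Normal := Normal.subgroupOf inferInstance H
  obtain ⟨Q⟩ : Nonempty (Sylow 3 H) := inferInstance
  have hQ3 : Nat.card Q = 3 := by
    have h : (24 : ℕ).factorization 3 = 1 := by
      rw [show (24 : ℕ) = 3 * 8 from rfl, Nat.factorization_mul (by norm_num) (by norm_num),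
        Finsupp.add_apply, Nat.prime_three.factorization_self,
        Nat.factorization_eq_zero_of_not_dvd (by norm_num)]
    rw [Sylow.card_eq_multiplicity, hHcard, h, pow_one]
  have hQP : ∀ (T : Sylow 3 H) (t : H), t ∈ P' → t ∈ (T : Subgroup H) → t = 1 := fun T t h1 h2 => by
    obtain ⟨j, hj⟩ := IsPGroup.iff_orderOf.mp T.2 ⟨t, h2⟩
    rw [orderOf_mk] at hj
    have h4 : orderOf t ∣ 4 := by
      rw [← hP'4, ← orderOf_mk t h1]
      exact orderOf_dvd_natCard _
    rw [← orderOf_eq_one_iff]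
    exact Nat.eq_one_of_dvd_coprimes ((by norm_num : Nat.Coprime 3 4).pow_left j) hj.dvd h4
  have hfpf : ∀ q : H, q ^ 3 = 1 → ∀ a : {a : P // a ≠ 1}, act P q a = a → q ∈ P' := by
    intro q hq a ha
    have h2 := perm_three_fix hX _ a ha
    have h3 : act P (q : G) ^ 3 = 1 := by
      rw [← map_pow, ← SubmonoidClass.coe_pow, hq, OneMemClass.coe_one, map_one]
    refine hHC q ?_
    rw [pow_succ, pow_two, h2, one_mul] at h3
    exact h3
  have hnorm : ∀ t : H, t ∈ P' → t ∈ (normalizer ((Q : Subgroup H) : Set H)) → t = 1 := by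
    intro t ht htn
    by_contra ht1
    obtain ⟨q, hq, hq1⟩ := (Subgroup.ne_bot_iff_exists_ne_one.mp (fun e : (Q : Subgroup H) = ⊥ =>
      by rw [e, card_bot] at hQ3; norm_num at hQ3) |>.elim fun q hq => ⟨q.1, q.2,
        fun e => hq (Subtype.ext e)⟩ : ∃ q ∈ (Q : Subgroup H), q ≠ (1 : H))
    have hc : q * t * q⁻¹ * t⁻¹ = 1 := by
      refine hQP Q _ (mul_mem (Normal.conj_mem inferInstance t ht q) (inv_mem ht)) ?_
      rw [show q * t * q⁻¹ * t⁻¹ = q * (t * q⁻¹ * t⁻¹) by group]
      exact mul_mem hq ((mem_normalizer_iff.mp htn q⁻¹).mp (inv_mem hq))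
    refine hq1 (hQP Q q (hfpf q ?_ ⟨⟨t, ht⟩, fun e => ht1 (Subtype.ext (congrArg Subtype.val e :
      (t : G) = 1))⟩ ?_) hq)
    · have := pow_card_eq_one' (x := (⟨q, hq⟩ : (Q : Subgroup H)))
      rw [show Nat.card (Q : Subgroup H) = 3 from hQ3] at this
      exact congrArg Subtype.val this
    · refine Subtype.ext (Subtype.ext ?_)
      rw [act_apply]
      have := congrArg Subtype.val (mul_inv_eq_one.mp hc)
      exact this
  have hn4 : Nat.card (Sylow 3 H) = 4 := by
    have h8 : Nat.card (Sylow 3 H) ∣ 8 := by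
      have h := (Q : Subgroup H).card_mul_index
      rw [show Nat.card (Q : Subgroup H) = 3 from hQ3, hHcard] at h
      exact (by omega : (Q : Subgroup H).index = 8) ▸ Q.card_dvd_index
    have h1 := card_sylow_modEq_one 3 H
    have hne : Nat.card (Sylow 3 H) ≠ 1 := by
      intro h
      haveI := (Nat.card_eq_one_iff_unique.mp h).1
      haveI := Q.normal_of_subsingleton
      obtain ⟨⟨t, ht⟩, ht1⟩ := Subgroup.ne_bot_iff_exists_ne_one.mp (fun e : P' = ⊥ => by
        rw [e, card_bot] at hP'4; norm_num at hP'4)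
      exact ht1 (Subtype.ext (hnorm t ht (by rw [normalizer_eq_top]; exact mem_top t)))
    have hle := Nat.le_of_dvd (by norm_num) h8
    interval_cases hh : Nat.card (Sylow 3 H) <;> simp only [Nat.ModEq] at h1 <;> omega
  let ψ : H →* Equiv.Perm (Sylow 3 H) := MulAction.toPermHom H (Sylow 3 H)
  have hψ : Function.Injective ψ := by
    rw [← MonoidHom.ker_eq_bot_iff, eq_bot_iff]
    intro g hg
    have hKn : ∀ t ∈ ψ.ker, t ∈ normalizer ((Q : Subgroup H) : Set H) := fun t ht => by
      exact Sylow.smul_eq_iff_mem_normalizer.mp (Equiv.Perm.congr_fun (MonoidHom.mem_ker.mp ht) Q)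
    have hcomm : ∀ t ∈ P', t * g = g * t := fun t ht => by
      have h1 : t * g * t⁻¹ * g⁻¹ ∈ P' := by
        rw [show t * g * t⁻¹ * g⁻¹ = t * (g * t⁻¹ * g⁻¹) by group]
        exact mul_mem ht (Normal.conj_mem inferInstance _ (inv_mem ht) g)
      have h2 : t * g * t⁻¹ * g⁻¹ ∈ ψ.ker :=
        mul_mem (Normal.conj_mem inferInstance _ hg t) (inv_mem hg)
      exact mul_inv_eq_iff_eq_mul.mp (mul_inv_eq_one.mp (hnorm _ h1 (hKn _ h2)))
    refine mem_bot.mpr (hnorm g (hHC g ((act_eq_one_iff P _).mpr ?_)) (hKn g hg))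
    exact mem_centralizer_iff.mpr fun b hb => congrArg Subtype.val (hcomm ⟨b, hPH hb⟩ hb)
  have hbij : Function.Bijective ψ := by
    refine (Nat.bijective_iff_injective_and_card ψ).mpr ⟨hψ, ?_⟩
    rw [hHcard, Nat.card_perm, hn4]
    rfl
  obtain ⟨e⟩ : Nonempty (Sylow 3 H ≃ Fin 4) := ⟨(Finite.equivFinOfCardEq hn4)⟩
  exact ⟨(MulEquiv.ofBijective ψ hbij).trans e.permCongrHom⟩

end Cfsg.Agent.Lib.RootOfUnity.Split
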